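import Mathlib

/-!
# Horn fillers in simplicial groups (Moore's algorithm), additive version

`d2 i : G2 → G1`, `d1 i : G1 → G0`, `s1 i : G1 → G2`, `s0 i : G0 → G1`, indices in `ℕ`.
-/

namespace SimpGrpLib

section
variable {G0 G1 G2 : Type*} [AddGroup G0] [AddGroup G1] [AddGroup G2] (n : ℕ)
  (d2 : ℕ → G2 →+ G1) (d1 : ℕ → G1 →+ G0) (s1 : ℕ → G1 →+ G2) (s0 : ℕ → G0 →+ G1)
  (K1 : AddSubgroup G1) (K2 : AddSubgroup G2)

theorem exists_filler
    (hdd : ∀ i j x, i < j → j ≤ n + 2 → d1 i (d2 j x) = d1 (j - 1) (d2 i x))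
    (hself : ∀ i z, i ≤ n + 1 → d2 i (s1 i z) = z)
    (hsucc : ∀ i z, i ≤ n + 1 → d2 (i + 1) (s1 i z) = z)
    (hlt : ∀ i j z, i < j → j ≤ n + 1 → d2 i (s1 j z) = s0 (j - 1) (d1 i z))
    (hgt : ∀ i j z, j + 1 < i → i ≤ n + 2 → d2 i (s1 j z) = s0 j (d1 (i - 1) z))
    (hs : ∀ j, ∀ z ∈ K1, s1 j z ∈ K2) (hd : ∀ j, ∀ z ∈ K2, d2 j z ∈ K1)
    (k : ℕ) (hk : k ≤ n + 2) (y : ℕ → G1) (hy : ∀ j, j ≤ n + 2 → j ≠ k → y j ∈ K1)
    (hcomp : ∀ i j, i < j → j ≤ n + 2 → i ≠ k → j ≠ k → d1 i (y j) = d1 (j - 1) (y i)) :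
    ∃ w ∈ K2, ∀ j, j ≤ n + 2 → j ≠ k → d2 j w = y j := by
  have h1 : ∀ r, r ≤ k → ∃ w ∈ K2, ∀ j, j < r → d2 j w = y j := by
    intro r
    induction r with
    | zero => intro _; exact ⟨0, K2.zero_mem, fun j hj => absurd hj (Nat.not_lt_zero j)⟩
    | succ r ih =>
      intro hr
      obtain ⟨w, hwK, hw⟩ := ih (by omega)
      refine ⟨w + s1 r (-(d2 r w) + y r), K2.add_mem hwK (hs r _ (K1.add_mem
        (K1.neg_mem (hd r w hwK)) (hy r (by omega) (by omega)))), fun j hj => ?_⟩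
      rcases Nat.lt_succ_iff_lt_or_eq.1 hj with hj | rfl
      · rw [map_add, hlt j r _ hj (by omega), map_add (d1 j), map_neg, hdd j r w hj (by omega),
          hw j hj, hcomp j r hj (by omega) (by omega) (by omega)]
        simp
      · rw [map_add, hself j _ (by omega)]
        simp
  have h2 : ∀ t, k + t ≤ n + 2 →
      ∃ w ∈ K2, ∀ j, j ≤ n + 2 → (j < k ∨ n + 2 - t < j) → d2 j w = y j := by
    intro t
    induction t with
    | zero =>
      intro _
      obtain ⟨w, hwK, hw⟩ := h1 k le_rfl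
      exact ⟨w, hwK, fun j hj h => hw j (by omega)⟩
    | succ t ih =>
      intro ht
      obtain ⟨w, hwK, hw⟩ := ih (by omega)
      obtain ⟨p, hp⟩ : ∃ p, n + 2 - t = p + 1 := ⟨n + 1 - t, by omega⟩
      refine ⟨w + s1 p (-(d2 (p + 1) w) + y (p + 1)), K2.add_mem hwK (hs p _ (K1.add_mem
        (K1.neg_mem (hd (p + 1) w hwK)) (hy (p + 1) (by omega) (by omega)))), fun j hj h => ?_⟩
      rcases lt_trichotomy j (p + 1) with hlt' | rfl | hgt'
      · have hjk : j < k := by omega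
        rw [map_add, hlt j p _ (by omega) (by omega), map_add (d1 j), map_neg,
          hdd j (p + 1) w (by omega) (by omega), hw j hj (Or.inl hjk),
          hcomp j (p + 1) (by omega) (by omega) (by omega) (by omega)]
        simp
      · rw [map_add, hsucc p _ (by omega)]
        simp
      · have e1 : d1 (j - 1) (d2 (p + 1) w) = d1 (p + 1) (d2 j w) :=
          (hdd (p + 1) j w hgt' hj).symm
        rw [map_add, hgt j p _ (by omega) hj, map_add (d1 (j - 1)), map_neg, e1,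
          hw j hj (by omega), hcomp (p + 1) j hgt' hj (by omega) (by omega)]
        simp
  obtain ⟨w, hwK, hw⟩ := h2 (n + 2 - k) (by omega)
  exact ⟨w, hwK, fun j hj hjk => hw j hj (by omega)⟩

end

end SimpGrpLib

namespace SimpGrpLib

/-- A simplicial additive group given by its faces and degeneracies. -/
structure SGrp (A : ℕ → Type*) [∀ n, AddGroup (A n)] where
  δ : ∀ {n : ℕ}, Fin (n + 2) → A (n + 1) →+ A n
  σ : ∀ {n : ℕ}, Fin (n + 1) → A n →+ A (n + 1)
  δ_δ : ∀ {n : ℕ} {i j : Fin (n + 2)}, i ≤ j → ∀ x : A (n + 2), δ i (δ j.succ x) = δ j (δ i.castSucc x)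
  δ_σ_self : ∀ {n : ℕ} (i : Fin (n + 1)) (x : A n), δ i.castSucc (σ i x) = x
  δ_σ_succ : ∀ {n : ℕ} (i : Fin (n + 1)) (x : A n), δ i.succ (σ i x) = x
  δ_σ_of_le : ∀ {n : ℕ} {i : Fin (n + 2)} {j : Fin (n + 1)}, i ≤ j.castSucc → ∀ x : A (n + 1),
    δ i.castSucc (σ j.succ x) = σ j (δ i x)
  δ_σ_of_gt : ∀ {n : ℕ} {i : Fin (n + 2)} {j : Fin (n + 1)}, j.castSucc < i → ∀ x : A (n + 1),
    δ i.succ (σ j.castSucc x) = σ j (δ i x)

variable {A : ℕ → Type*} [∀ n, AddGroup (A n)] (S : SGrp A)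

/-- Clamp a natural number into `Fin (n + 1)`. -/
def cl (n i : ℕ) : Fin (n + 1) := ⟨min i n, by omega⟩

theorem val_cl {n i : ℕ} (h : i ≤ n) : (cl n i : ℕ) = i := by simp [cl, h]

theorem cl_val {n : ℕ} (i : Fin (n + 1)) : cl n i = i := Fin.ext (val_cl (by omega))

theorem SGrp.horn_filler {n : ℕ} (K : ∀ m, AddSubgroup (A m))
    (hσ : ∀ {m} (i : Fin (m + 1)), ∀ x ∈ K m, S.σ i x ∈ K (m + 1))
    (hδ : ∀ {m} (i : Fin (m + 2)), ∀ x ∈ K (m + 1), S.δ i x ∈ K m)
    (k : Fin (n + 2)) (y : Fin (n + 2) → A n) (hy : ∀ j, j ≠ k → y j ∈ K n)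
    (hcomp : ∀ m (hm : m + 1 = n) (i j : Fin (m + 2)), i ≤ j →
      (Fin.cast (by omega) i.castSucc : Fin (n + 2)) ≠ k →
      (Fin.cast (by omega) j.succ : Fin (n + 2)) ≠ k →
      S.δ i (hm ▸ y (Fin.cast (by omega) j.succ)) =
        S.δ j (hm ▸ y (Fin.cast (by omega) i.castSucc))) :
    ∃ w ∈ K (n + 1), ∀ j, j ≠ k → S.δ j w = y j := by
  cases n with
  | zero =>
    fin_cases k
    · refine ⟨S.σ 0 (y 1), hσ 0 _ (hy 1 (by decide)), fun j hj => ?_⟩
      fin_cases j
      · exact absurd rfl hj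
      · exact S.δ_σ_succ 0 _
    · refine ⟨S.σ 0 (y 0), hσ 0 _ (hy 0 (by decide)), fun j hj => ?_⟩
      fin_cases j
      · exact S.δ_σ_self 0 _
      · exact absurd rfl hj
  | succ m =>
    obtain ⟨w, hwK, hw⟩ := exists_filler m (fun i => S.δ (cl (m + 2) i))
      (fun i => S.δ (cl (m + 1) i)) (fun i => S.σ (cl (m + 1) i)) (fun i => S.σ (cl m i))
      (K (m + 1)) (K (m + 2))
      (fun i j x hij hj => by
        convert! S.δ_δ (i := cl (m + 1) i) (j := cl (m + 1) (j - 1))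
          (by simp only [Fin.le_def, val_cl (show i ≤ m + 1 by omega),
            val_cl (show j - 1 ≤ m + 1 by omega)]; omega) x using 4 <;>
          apply Fin.ext <;> simp [cl] <;> omega)
      (fun i z hi => by
        convert! S.δ_σ_self (cl (m + 1) i) z using 3
        apply Fin.ext; simp [cl]; omega)
      (fun i z hi => by
        convert! S.δ_σ_succ (cl (m + 1) i) z using 3
        apply Fin.ext; simp [cl])
      (fun i j z hij hj => by
        convert! S.δ_σ_of_le (i := cl (m + 1) i) (j := cl m (j - 1))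
          (by simp only [Fin.le_def, Fin.val_castSucc, val_cl (show i ≤ m + 1 by omega),
            val_cl (show j - 1 ≤ m by omega)]; omega) z using 4 <;>
          apply Fin.ext <;> simp [cl] <;> omega)
      (fun i j z hij hi => by
        convert! S.δ_σ_of_gt (i := cl (m + 1) (i - 1)) (j := cl m j)
          (by simp only [Fin.lt_def, Fin.val_castSucc, val_cl (show i - 1 ≤ m + 1 by omega),
            val_cl (show j ≤ m by omega)]; omega) z using 4 <;>
          apply Fin.ext <;> simp [cl] <;> omega)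
      (fun j z hz => hσ _ z hz) (fun j z hz => hδ _ z hz) k (by omega)
      (fun j => y (cl (m + 2) j))
      (fun j hj hjk => hy _ (fun h => hjk (by rw [← h, val_cl hj])))
      (fun i j hij hj hik hjk => by
        have hi' : i ≤ m + 1 := by omega
        have hj' : j - 1 ≤ m + 1 := by omega
        convert! hcomp m rfl (cl (m + 1) i) (cl (m + 1) (j - 1))
          (by simp only [Fin.le_def, val_cl hi', val_cl hj']; omega)
          (fun h => hik (by rw [← h]; simp [val_cl hi']))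
          (fun h => hjk (by rw [← h]; simp [val_cl hj']; omega)) using 2 <;>
        · show y _ = y _
          congr 1
          apply Fin.ext; simp [cl]; omega)
    refine ⟨w, hwK, fun j hj => ?_⟩
    have := hw j (by omega) (fun h => hj (Fin.ext h))
    rwa [cl_val] at this

end SimpGrpLib
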