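import Mathlib
import Groth.Agent.SimpGrpLib.Filler

open CategoryTheory Simplicial Opposite

universe u

namespace SimpGrpLib

theorem δ_yonedaEquiv {X : SSet.{u}} {n : ℕ} (i : Fin (n + 2)) (φ : Δ[n + 1] ⟶ X) :
    X.δ i (SSet.yonedaEquiv φ) = SSet.yonedaEquiv (SSet.stdSimplex.δ i ≫ φ) := by
  have h := ConcreteCategory.congr_hom (φ.naturality (SimplexCategory.δ i).op)
    (SSet.stdSimplex.objEquiv.symm (𝟙 ⦋n + 1⦌))
  refine h.symm.trans ?_
  rfl

noncomputable def addGrpOf (X : SimplicialObject AddCommGrpCat.{u}) : SGrp (fun n => X _⦋n⦌) where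
  δ i := (X.δ i).hom
  σ i := (X.σ i).hom
  δ_δ H x := ConcreteCategory.congr_hom (X.δ_comp_δ H) x
  δ_σ_self _ x := ConcreteCategory.congr_hom X.δ_comp_σ_self x
  δ_σ_succ _ x := ConcreteCategory.congr_hom X.δ_comp_σ_succ x
  δ_σ_of_le H x := ConcreteCategory.congr_hom (X.δ_comp_σ_of_le H) x
  δ_σ_of_gt H x := ConcreteCategory.congr_hom (X.δ_comp_σ_of_gt H) x

noncomputable def grpOf (X : SimplicialObject GrpCat.{u}) :
    SGrp (fun n => Additive (X _⦋n⦌)) where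
  δ i := MonoidHom.toAdditive (X.δ i).hom
  σ i := MonoidHom.toAdditive (X.σ i).hom
  δ_δ H x := ConcreteCategory.congr_hom (X.δ_comp_δ H) (Additive.toMul x)
  δ_σ_self _ x := ConcreteCategory.congr_hom X.δ_comp_σ_self (Additive.toMul x)
  δ_σ_succ _ x := ConcreteCategory.congr_hom X.δ_comp_σ_succ (Additive.toMul x)
  δ_σ_of_le H x := ConcreteCategory.congr_hom (X.δ_comp_σ_of_le H) (Additive.toMul x)
  δ_σ_of_gt H x := ConcreteCategory.congr_hom (X.δ_comp_σ_of_gt H) (Additive.toMul x)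

/-- Element form of compatibility of the faces of a horn. -/
theorem horn_faces_comm {X : SSet.{u}} {m : ℕ} {k : Fin (m + 3)}
    {f : ∀ (j : Fin (m + 3)) (_ : j ≠ k), Δ[m + 1] ⟶ X} (hf : SSet.horn.IsCompatible f)
    {i j : Fin (m + 2)} (hij : i ≤ j) (hi : i.castSucc ≠ k) (hj : j.succ ≠ k) :
    X.δ i (SSet.yonedaEquiv (f j.succ hj)) = X.δ j (SSet.yonedaEquiv (f i.castSucc hi)) := by
  have := hf.δ_pred_comp i.castSucc j.succ hi hj (Fin.castSucc_lt_succ_iff.2 hij)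
  simp only [Fin.pred_succ, Fin.castPred_castSucc] at this
  rw [δ_yonedaEquiv, δ_yonedaEquiv, this]

theorem exists_horn_filler_grp (X : SimplicialObject GrpCat.{u}) {n : ℕ} {k : Fin (n + 2)}
    (f : ∀ (j : Fin (n + 2)) (_ : j ≠ k), Δ[n] ⟶ (X ⋙ forget GrpCat.{u} : SSet.{u}))
    (hf : SSet.horn.IsCompatible f) :
    ∃ φ : Δ[n + 1] ⟶ (X ⋙ forget GrpCat.{u} : SSet.{u}),
      ∀ j hj, SSet.stdSimplex.δ j ≫ φ = f j hj := by
  classical
  let y : Fin (n + 2) → Additive (X _⦋n⦌) := fun j =>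
    if h : j ≠ k then Additive.ofMul (SSet.yonedaEquiv (f j h)) else 0
  obtain ⟨w, -, hw⟩ := (grpOf X).horn_filler (fun _ => ⊤) (fun _ _ _ => trivial)
    (fun _ _ _ => trivial) k y (fun _ _ => trivial) (by
      intro m hm i j hij hi hj
      subst hm
      simp only [y, Fin.cast_eq_self] at hi hj ⊢
      rw [dif_pos hi, dif_pos hj]
      exact horn_faces_comm hf hij hi hj)
  refine ⟨SSet.yonedaEquiv.symm (Additive.toMul w), fun j hj => ?_⟩
  apply SSet.yonedaEquiv.injective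
  rw [← δ_yonedaEquiv, Equiv.apply_symm_apply]
  refine (hw j hj).trans ?_
  show y j = _
  simp only [y, dif_pos hj]
  rfl

end SimpGrpLib
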