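import Mathlib
import Groth.Agent.SimpGrpLib.Simplicial

open CategoryTheory Simplicial Opposite SSet.modelCategoryQuillen

universe u

namespace SimpGrpLib

variable {X Y : SimplicialObject AddCommGrpCat.{u}} (f : X ⟶ Y)

/-- The simplicial set underlying a simplicial abelian group. -/
abbrev toSSet (X : SimplicialObject AddCommGrpCat.{u}) : SSet.{u} :=
  X ⋙ forget AddCommGrpCat.{u}

abbrev toSSetMap : toSSet X ⟶ toSSet Y := Functor.whiskerRight f (forget AddCommGrpCat.{u})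

/-- The element of `X` corresponding to a map from a standard simplex. -/
def el {n : ℕ} (φ : Δ[n] ⟶ toSSet X) : X _⦋n⦌ := SSet.yonedaEquiv φ

theorem el_injective {n : ℕ} : Function.Injective (el (X := X) (n := n)) :=
  SSet.yonedaEquiv.injective

theorem el_symm {n : ℕ} (x : X _⦋n⦌) :
    el (SSet.yonedaEquiv.symm x : Δ[n] ⟶ toSSet X) = x := Equiv.apply_symm_apply _ _

theorem el_δ {n : ℕ} (i : Fin (n + 2)) (φ : Δ[n + 1] ⟶ toSSet X) :
    el (SSet.stdSimplex.δ i ≫ φ) = X.δ i (el φ) := (δ_yonedaEquiv i φ).symm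

noncomputable def kerAt (m : ℕ) : AddSubgroup (X _⦋m⦌) :=
  AddMonoidHom.ker (f.app (op ⦋m⦌)).hom

theorem f_δ {m : ℕ} (i : Fin (m + 2)) (x : X _⦋m + 1⦌) :
    f.app (op ⦋m⦌) (X.δ i x) = Y.δ i (f.app (op ⦋m + 1⦌) x) :=
  ConcreteCategory.congr_hom (f.naturality (SimplexCategory.δ i).op) x

theorem f_σ {m : ℕ} (i : Fin (m + 1)) (x : X _⦋m⦌) :
    f.app (op ⦋m + 1⦌) (X.σ i x) = Y.σ i (f.app (op ⦋m⦌) x) :=
  ConcreteCategory.congr_hom (f.naturality (SimplexCategory.σ i).op) x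

theorem mem_kerAt_σ {m : ℕ} (i : Fin (m + 1)) (x : X _⦋m⦌) (hx : x ∈ kerAt f m) :
    X.σ i x ∈ kerAt f (m + 1) := by
  have hx' : f.app (op ⦋m⦌) x = 0 := hx
  show f.app (op ⦋m + 1⦌) (X.σ i x) = 0
  rw [f_σ, hx', map_zero]

theorem mem_kerAt_δ {m : ℕ} (i : Fin (m + 2)) (x : X _⦋m + 1⦌) (hx : x ∈ kerAt f (m + 1)) :
    X.δ i x ∈ kerAt f m := by
  have hx' : f.app (op ⦋m + 1⦌) x = 0 := hx
  show f.app (op ⦋m⦌) (X.δ i x) = 0
  rw [f_δ, hx', map_zero]

theorem δ_δ_apply {m : ℕ} {i j : Fin (m + 2)} (H : i ≤ j) (x : X _⦋m + 2⦌) :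
    X.δ i (X.δ j.succ x) = X.δ j (X.δ i.castSucc x) :=
  ConcreteCategory.congr_hom (X.δ_comp_δ H) x

theorem yonedaEquiv_comp_toSSetMap {n : ℕ} (φ : Δ[n] ⟶ toSSet X) :
    el (φ ≫ toSSetMap f) = f.app (op ⦋n⦌) (el φ) := rfl

theorem hasLift_horn (hf : ∀ n, Function.Surjective (f.app n)) (n : ℕ) (k : Fin (n + 2)) :
    HasLiftingProperty (SSet.horn (n + 1) k).ι (toSSetMap f) := by
  refine ⟨fun {t b} sq => ?_⟩
  classical
  obtain ⟨x₀, hx₀⟩ := hf (op ⦋n + 1⦌) (el b)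
  have hface : ∀ j (hj : j ≠ k),
      f.app (op ⦋n⦌) (el (SSet.horn.ι k j hj ≫ t)) =
        f.app (op ⦋n⦌) (X.δ j x₀) := by
    intro j hj
    rw [← yonedaEquiv_comp_toSSetMap, f_δ, hx₀, Category.assoc]
    rw [← el_δ]
    congr 1
    rw [← SSet.horn.ι_ι k j hj, Category.assoc, sq.w]
  let y : Fin (n + 2) → X _⦋n⦌ := fun j => if h : j ≠ k then
    el (SSet.horn.ι k j h ≫ t) - X.δ j x₀ else 0
  obtain ⟨w, hwK, hw⟩ := (addGrpOf X).horn_filler (kerAt f) (mem_kerAt_σ f) (mem_kerAt_δ f) k y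
    (fun j hj => by
      show f.app (op ⦋n⦌) (y j) = 0
      simp only [y, dif_pos hj]
      rw [map_sub, hface j hj, sub_self])
    (by
      intro m hm i j hij hi hj
      subst hm
      simp only [y, Fin.cast_eq_self] at hi hj ⊢
      rw [dif_pos hi, dif_pos hj]
      show X.δ i _ = X.δ j _
      rw [map_sub, map_sub, δ_δ_apply hij]
      congr 1
      exact horn_faces_comm (X := toSSet X) (SSet.horn.IsCompatible.of_hom t) hij hi hj)
  refine ⟨⟨{ l := SSet.yonedaEquiv.symm (x₀ + w : X _⦋n + 1⦌)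
             fac_left := ?_, fac_right := ?_ }⟩⟩
  · apply SSet.horn.hom_ext'
    intro j hj
    apply el_injective
    rw [← Category.assoc, SSet.horn.ι_ι, el_δ, el_symm]
    have hwj : X.δ j w = y j := hw j hj
    rw [map_add, hwj]
    simp only [y, dif_pos hj]
    exact add_sub_cancel (X.δ j x₀) _
  · apply el_injective
    rw [yonedaEquiv_comp_toSSetMap, el_symm]
    have hwK' : f.app (op ⦋n + 1⦌) w = 0 := hwK
    show f.app (op ⦋n + 1⦌) (x₀ + w) = _
    rw [map_add, hwK', add_zero, hx₀]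

theorem rlp_J (hf : ∀ n, Function.Surjective (f.app n)) : J.rlp (toSSetMap f) := by
  intro A B i hi
  simp only [J, MorphismProperty.iSup_iff] at hi
  obtain ⟨n, ⟨k⟩⟩ := hi
  exact hasLift_horn f hf n k

end SimpGrpLib
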