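import Mathlib
import Groth.Agent.SimpGrpLib.Fibration

open CategoryTheory Simplicial Opposite SSet.modelCategoryQuillen AlgebraicTopology

universe u

namespace SimpGrpLib

section chain

variable {K L : ChainComplex AddCommGrpCat.{u} ℕ} (φ : K ⟶ L)

theorem iCycles_injective (n : ℕ) : Function.Injective (K.iCycles n) :=
  (AddCommGrpCat.mono_iff_injective _).1 inferInstance

theorem homologyπ_eq_zero_iff (K : ChainComplex AddCommGrpCat.{u} ℕ) (n : ℕ) (z : K.cycles n) :
    K.homologyπ n z = 0 ↔ ∃ v, K.d (n + 1) n v = K.iCycles n z := by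
  have hex : (ShortComplex.mk (K.toCycles (n + 1) n) (K.homologyπ n) (by simp)).Exact :=
    ShortComplex.exact_of_g_is_cokernel _ (K.homologyIsCokernel (n + 1) n (by simp))
  constructor
  · intro hz
    obtain ⟨v, hv⟩ := (ShortComplex.ab_exact_iff _).1 hex z hz
    exact ⟨v, (ConcreteCategory.congr_hom (K.toCycles_i (n + 1) n) v).symm.trans
      (congrArg (K.iCycles n) hv)⟩
  · rintro ⟨v, hv⟩
    have : K.toCycles (n + 1) n v = z := iCycles_injective n
      ((ConcreteCategory.congr_hom (K.toCycles_i (n + 1) n) v).trans hv)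
    rw [← this]
    exact ConcreteCategory.congr_hom (K.toCycles_comp_homologyπ (n + 1) n) v

theorem exists_cycle (K : ChainComplex AddCommGrpCat.{u} ℕ) (n : ℕ) (x : K.X n)
    (hx : ∀ j, j + 1 = n → K.d n j x = 0) : ∃ z : K.cycles n, K.iCycles n z = x := by
  have hex : (ShortComplex.mk (K.iCycles n) (K.d n ((ComplexShape.down ℕ).next n))
      (by simp)).Exact :=
    ShortComplex.exact_of_f_is_kernel _ (K.cyclesIsKernel n _ rfl)
  refine (ShortComplex.ab_exact_iff _).1 hex x ?_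
  show K.d n _ x = 0
  cases n with
  | zero => rw [K.shape _ _ (by simp)]; rfl
  | succ m => rw [ChainComplex.next_nat_succ]; exact hx m rfl

theorem exists_ker_preimage (hs : ∀ n, Function.Surjective (φ.f n)) (hq : QuasiIso φ) (n : ℕ)
    (r : K.X n) (hr : φ.f n r = 0) (hdr : ∀ j, j + 1 = n → K.d n j r = 0) :
    ∃ v : K.X (n + 1), φ.f (n + 1) v = 0 ∧ K.d (n + 1) n v = r := by
  have hb : ∀ m, Function.Bijective (HomologicalComplex.homologyMap φ m) := fun m => by
    have : IsIso (HomologicalComplex.homologyMap φ m) :=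
      (quasiIsoAt_iff_isIso_homologyMap φ m).1 inferInstance
    exact ConcreteCategory.bijective_of_isIso (HomologicalComplex.homologyMap φ m)
  have hnat : ∀ m (z : K.cycles m), HomologicalComplex.homologyMap φ m (K.homologyπ m z) =
      L.homologyπ m (HomologicalComplex.cyclesMap φ m z) := fun m z =>
    ConcreteCategory.congr_hom (HomologicalComplex.homologyπ_naturality φ m) z
  have hi : ∀ m (z : K.cycles m), L.iCycles m (HomologicalComplex.cyclesMap φ m z) =
      φ.f m (K.iCycles m z) := fun m z =>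
    ConcreteCategory.congr_hom (HomologicalComplex.cyclesMap_i φ m) z
  have hd : ∀ i j (v : K.X i), φ.f j (K.d i j v) = L.d i j (φ.f i v) := fun i j v =>
    (ConcreteCategory.congr_hom (φ.comm i j) v).symm
  obtain ⟨z, hz⟩ := exists_cycle K n r hdr
  have hz0 : HomologicalComplex.cyclesMap φ n z = 0 :=
    iCycles_injective n (by rw [hi, hz, hr, map_zero])
  have hπ : K.homologyπ n z = 0 := (hb n).1 (by rw [hnat, hz0, map_zero, map_zero])
  obtain ⟨v, hv⟩ := (homologyπ_eq_zero_iff K n z).1 hπ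
  rw [hz] at hv
  obtain ⟨w, hw⟩ := exists_cycle L (n + 1) (φ.f (n + 1) v) (fun j hj => by
    obtain rfl : j = n := by omega
    rw [← hd, hv, hr])
  obtain ⟨h, hh⟩ := (hb (n + 1)).2 (L.homologyπ (n + 1) w)
  obtain ⟨c, rfl⟩ := (AddCommGrpCat.epi_iff_surjective (K.homologyπ (n + 1))).1 inferInstance h
  rw [hnat] at hh
  have hdiff : L.homologyπ (n + 1) (w - HomologicalComplex.cyclesMap φ (n + 1) c) = 0 := by
    rw [map_sub, hh, sub_self]
  obtain ⟨t, ht⟩ := (homologyπ_eq_zero_iff L (n + 1) _).1 hdiff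
  obtain ⟨t', rfl⟩ := hs (n + 1 + 1) t
  refine ⟨v - K.iCycles (n + 1) c - K.d (n + 1 + 1) (n + 1) t', ?_, ?_⟩
  · rw [map_sub, map_sub, hd, ht, map_sub, hw, hi]
    simp
  · have h1 : K.d (n + 1) n (K.iCycles (n + 1) c) = 0 :=
      ConcreteCategory.congr_hom (K.iCycles_d (n + 1) n) c
    have h2 : K.d (n + 1) n (K.d (n + 1 + 1) (n + 1) t') = 0 :=
      ConcreteCategory.congr_hom (K.d_comp_d (n + 1 + 1) (n + 1) n) t'
    rw [map_sub, map_sub, h1, h2, hv]
    simp

end chain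

variable {X Y : SimplicialObject AddCommGrpCat.{u}} (f : X ⟶ Y)

theorem d_apply (X : SimplicialObject AddCommGrpCat.{u}) (m : ℕ) (x : X _⦋m + 1⦌) :
    ((alternatingFaceMapComplex AddCommGrpCat.{u}).obj X).d (m + 1) m x =
      ∑ i : Fin (m + 2), (-1 : ℤ) ^ (i : ℕ) • X.δ i x := by
  rw [alternatingFaceMapComplex_obj_d]
  simp only [AlternatingFaceMapComplex.objD]
  exact map_sum (AddMonoidHom.eval x |>.comp
    (AddCommGrpCat.homAddEquiv (M := X _⦋m + 1⦌) (N := X _⦋m⦌)).toAddMonoidHom) _ _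

/-- Normalisation `P∞`, on elements. -/
noncomputable def pI (X : SimplicialObject AddCommGrpCat.{u}) (m : ℕ) :
    X _⦋m⦌ ⟶ X _⦋m⦌ := (DoldKan.PInfty (X := X)).f m

theorem pI_succ_δ (n : ℕ) (i : Fin (n + 1)) (v : X _⦋n + 1⦌) :
    X.δ i.succ (pI X (n + 1) v) = 0 :=
  ConcreteCategory.congr_hom (DoldKan.HigherFacesVanish.of_P (X := X) (n + 1) n i (by omega)) v

theorem pI_naturality (n : ℕ) (v : X _⦋n⦌) :
    f.app (op ⦋n⦌) (pI X n v) = pI Y n (f.app (op ⦋n⦌) v) :=
  (ConcreteCategory.congr_hom (DoldKan.PInfty_f_naturality n f) v).symm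

theorem pI_d (n : ℕ) (v : X _⦋n + 1⦌) :
    ((alternatingFaceMapComplex AddCommGrpCat.{u}).obj X).d (n + 1) n (pI X (n + 1) v) =
      pI X n (((alternatingFaceMapComplex AddCommGrpCat.{u}).obj X).d (n + 1) n v) :=
  ConcreteCategory.congr_hom ((DoldKan.PInfty (X := X)).comm (n + 1) n) v

theorem exists_moore_preimage (hf : ∀ n, Function.Surjective (f.app n))
    (hq : QuasiIso ((alternatingFaceMapComplex AddCommGrpCat.{u}).map f)) (n : ℕ) (r : X _⦋n⦌)
    (hr : f.app (op ⦋n⦌) r = 0) (hfaces : ∀ m (h : m + 1 = n) i, X.δ i (h ▸ r : X _⦋m + 1⦌) = 0) :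
    ∃ v : X _⦋n + 1⦌, f.app (op ⦋n + 1⦌) v = 0 ∧ X.δ 0 v = r ∧
      ∀ i : Fin (n + 1), X.δ i.succ v = 0 := by
  obtain ⟨v, hv, hdv⟩ := exists_ker_preimage
    ((alternatingFaceMapComplex AddCommGrpCat.{u}).map f) (fun m => hf (op ⦋m⦌)) hq n r hr
    (fun j hj => by
      subst hj
      rw [d_apply]
      exact Finset.sum_eq_zero fun i _ => by rw [hfaces j rfl i, zsmul_zero])
  have hfix : pI X n r = r := by
    cases n with
    | zero => rfl
    | succ m =>
      let K : AddSubgroup (X _⦋m + 1⦌) := ⨅ i, AddMonoidHom.ker (X.δ i).hom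
      let φ : AddCommGrpCat.of K ⟶ X _⦋m + 1⦌ := AddCommGrpCat.ofHom K.subtype
      have hφ : DoldKan.HigherFacesVanish (m + 1) φ := fun j _ => by
        ext x
        exact (AddSubgroup.mem_iInf.1 x.2 j.succ : _)
      exact ConcreteCategory.congr_hom hφ.comp_P_eq_self
        ⟨r, AddSubgroup.mem_iInf.2 fun i => hfaces m rfl i⟩
  have hv' : f.app (op ⦋n + 1⦌) v = 0 := hv
  refine ⟨pI X (n + 1) v, ?_, ?_, fun i => pI_succ_δ n i v⟩
  · rw [pI_naturality, hv', map_zero]
  · have h' : ((alternatingFaceMapComplex AddCommGrpCat.{u}).obj X).d (n + 1) n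
        (pI X (n + 1) v) = r := by
      rw [pI_d]
      exact (congrArg _ hdv).trans hfix
    rw [d_apply, Fin.sum_univ_succ] at h'
    simpa [pI_succ_δ] using h'

theorem exists_boundary_filler (hf : ∀ n, Function.Surjective (f.app n))
    (hq : QuasiIso ((alternatingFaceMapComplex AddCommGrpCat.{u}).map f)) (n : ℕ)
    (z : Fin (n + 2) → X _⦋n⦌) (hz : ∀ j, f.app (op ⦋n⦌) (z j) = 0)
    (hcomp : ∀ m (hm : m + 1 = n) (i j : Fin (m + 2)), i ≤ j →
      X.δ i (hm ▸ z (Fin.cast (by omega) j.succ) : X _⦋m + 1⦌) =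
        X.δ j (hm ▸ z (Fin.cast (by omega) i.castSucc) : X _⦋m + 1⦌)) :
    ∃ w : X _⦋n + 1⦌, f.app (op ⦋n + 1⦌) w = 0 ∧ ∀ j, X.δ j w = z j := by
  obtain ⟨w, hwK, hw⟩ := (addGrpOf X).horn_filler (kerAt f) (mem_kerAt_σ f) (mem_kerAt_δ f) 0 z
    (fun j _ => hz j) (fun m hm i j hij _ _ => hcomp m hm i j hij)
  have hw' : ∀ j, j ≠ 0 → X.δ j w = z j := hw
  have hwK' : f.app (op ⦋n + 1⦌) w = 0 := hwK
  obtain ⟨v, hv, hv0, hvs⟩ := exists_moore_preimage f hf hq n (z 0 - X.δ 0 w)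
    (by rw [map_sub, f_δ, hwK', map_zero, hz, sub_zero])
    (fun m hm i => by
      subst hm
      have e : X.δ i (X.δ 0 w) = X.δ 0 (X.δ i.succ w) :=
        (δ_δ_apply (Fin.zero_le i) w).symm
      have c := hcomp m rfl 0 i (Fin.zero_le i)
      simp only [Fin.cast_eq_self, Fin.castSucc_zero] at c
      show X.δ i (z 0 - X.δ 0 w) = 0
      rw [map_sub, e, hw' i.succ (Fin.succ_ne_zero i), c, sub_self])
  refine ⟨w + v, by rw [map_add, hwK', hv, add_zero], fun j => ?_⟩
  obtain rfl | ⟨i, rfl⟩ := Fin.eq_zero_or_eq_succ j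
  · rw [map_add, hv0, add_sub_cancel]
  · rw [map_add, hvs, add_zero, hw' _ (Fin.succ_ne_zero i)]

theorem hasLift_boundary_succ (hf : ∀ n, Function.Surjective (f.app n))
    (hq : QuasiIso ((alternatingFaceMapComplex AddCommGrpCat.{u}).map f)) (n : ℕ) :
    HasLiftingProperty (SSet.boundary (n + 1)).ι (toSSetMap f) := by
  refine ⟨fun {t b} sq => ?_⟩
  obtain ⟨x₀, hx₀⟩ := hf (op ⦋n + 1⦌) (el b)
  have hface : ∀ j, f.app (op ⦋n⦌) (el (SSet.boundary.ι j ≫ t)) =
      f.app (op ⦋n⦌) (X.δ j x₀) := by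
    intro j
    rw [← yonedaEquiv_comp_toSSetMap, f_δ, hx₀, Category.assoc, ← el_δ]
    congr 1
    rw [← SSet.boundary.ι_ι j, Category.assoc, sq.w]
  obtain ⟨w, hwK, hw⟩ := exists_boundary_filler f hf hq n
    (fun j => el (SSet.boundary.ι j ≫ t) - X.δ j x₀)
    (fun j => by rw [map_sub, hface j, sub_self])
    (by
      intro m hm i j hij
      subst hm
      simp only [Fin.cast_eq_self]
      rw [map_sub, map_sub, δ_δ_apply hij, ← el_δ, ← el_δ, ← Category.assoc, ← Category.assoc]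
      congr 3
      rw [← cancel_mono (SSet.boundary (m + 1 + 1)).ι, Category.assoc, Category.assoc,
        SSet.boundary.ι_ι, SSet.boundary.ι_ι, SSet.stdSimplex.δ_comp_δ hij])
  refine ⟨⟨{ l := SSet.yonedaEquiv.symm (x₀ + w : X _⦋n + 1⦌)
             fac_left := ?_, fac_right := ?_ }⟩⟩
  · apply SSet.boundary.hom_ext
    intro j
    apply el_injective
    rw [← Category.assoc, SSet.boundary.ι_ι, el_δ, el_symm, map_add, hw j]
    exact add_sub_cancel (X.δ j x₀) _
  · apply el_injective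
    rw [yonedaEquiv_comp_toSSetMap, el_symm]
    show f.app (op ⦋n + 1⦌) (x₀ + w) = _
    rw [map_add, hwK, add_zero, hx₀]

theorem rlp_I (hf : ∀ n, Function.Surjective (f.app n))
    (hq : QuasiIso ((alternatingFaceMapComplex AddCommGrpCat.{u}).map f)) :
    I.rlp (toSSetMap f) := by
  intro A B i hi
  obtain ⟨_ | n⟩ := hi
  · refine ⟨fun {t b} sq => ?_⟩
    obtain ⟨x₀, hx₀⟩ := hf (op ⦋0⦌) (el b)
    exact ⟨⟨{ l := SSet.yonedaEquiv.symm x₀
              fac_left := SSet.boundary.hom_ext₀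
              fac_right := el_injective (by rw [yonedaEquiv_comp_toSSetMap, el_symm, hx₀]) }⟩⟩
  · exact hasLift_boundary_succ f hf hq n

end SimpGrpLib
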