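import Mathlib
import Groth.Agent.SimpGrpLib.Simplicial

open CategoryTheory Simplicial Opposite SSet.modelCategoryQuillen

universe u

namespace SimpGrpLib

variable {U V : SSet.{u}} (f : V ⟶ U) (n : ℕ)

theorem rlp_I_of_isCoskeletal
    (h1 : ∀ i : ℕ, i < n → Function.Bijective (f.app (op ⦋i⦌)))
    (h2 : Function.Surjective (f.app (op ⦋n⦌)))
    [SimplicialObject.IsCoskeletal U n] [SimplicialObject.IsCoskeletal V n] : I.rlp f := by
  intro A B i hi
  obtain ⟨m⟩ := hi
  refine ⟨fun {t b} sq => ?_⟩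
  rcases le_or_gt m n with hm | hm
  · have hsurj : Function.Surjective (f.app (op ⦋m⦌)) := by
      rcases hm.lt_or_eq with h | rfl
      exacts [(h1 m h).2, h2]
    obtain ⟨x, hx⟩ := hsurj (SSet.yonedaEquiv b)
    have hb : SSet.yonedaEquiv.symm x ≫ f = b := by
      rw [SSet.yonedaEquiv_symm_comp]
      exact (congrArg SSet.yonedaEquiv.symm hx).trans (Equiv.symm_apply_apply _ _)
    refine ⟨⟨{ l := SSet.yonedaEquiv.symm x, fac_left := ?_, fac_right := hb }⟩⟩
    cases m with
    | zero => exact SSet.boundary.hom_ext₀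
    | succ k =>
      apply SSet.boundary.hom_ext
      intro j
      apply SSet.yonedaEquiv.injective
      apply (h1 k (by omega)).1
      show SSet.yonedaEquiv ((SSet.boundary.ι j ≫ _ ≫ SSet.yonedaEquiv.symm x) ≫ f) =
        SSet.yonedaEquiv ((SSet.boundary.ι j ≫ t) ≫ f)
      rw [Category.assoc, Category.assoc, Category.assoc, hb, sq.w]
  · let W := (SimplexCategory.Truncated.inclusion n).op
    let eV := fun (Z : SSet.{u}) => Functor.homEquivOfIsRightKanExtension V (𝟙 (W ⋙ V)) Z
    let eU := fun (Z : SSet.{u}) => Functor.homEquivOfIsRightKanExtension U (𝟙 (W ⋙ U)) Z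
    have : IsIso (Functor.whiskerLeft W (SSet.boundary m).ι) := by
      rw [NatTrans.isIso_iff_isIso_app]
      intro k
      rw [isIso_iff_bijective]
      refine ⟨fun a c hac => Subtype.ext hac, fun a => ⟨⟨a, ?_⟩, rfl⟩⟩
      have hk : k.unop.obj.len < m := lt_of_le_of_lt k.unop.property hm
      show a ∈ (SSet.boundary m).obj (op ⦋k.unop.obj.len⦌)
      rw [SSet.boundary_obj_eq_univ _ _ hk]
      trivial
    have hV : ∀ (Z : SSet.{u}) (g : Z ⟶ V), eV Z g = Functor.whiskerLeft W g := fun Z g => by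
      simp [eV, Functor.homEquivOfIsRightKanExtension]
    have hU : ∀ (Z : SSet.{u}) (g : Z ⟶ U), eU Z g = Functor.whiskerLeft W g := fun Z g => by
      simp [eU, Functor.homEquivOfIsRightKanExtension]
    obtain ⟨l, hl⟩ := (eV _).surjective
      (inv (Functor.whiskerLeft W (SSet.boundary m).ι) ≫ Functor.whiskerLeft W t)
    rw [hV] at hl
    refine ⟨⟨{ l := l, fac_left := ?_, fac_right := ?_ }⟩⟩
    · apply (eV _).injective
      rw [hV, hV, Functor.whiskerLeft_comp, hl, IsIso.hom_inv_id_assoc]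
    · apply (eU _).injective
      rw [hU, hU, ← cancel_epi (Functor.whiskerLeft W (SSet.boundary m).ι),
        Functor.whiskerLeft_comp, hl, ← Functor.whiskerLeft_comp, ← sq.w,
        Functor.whiskerLeft_comp, Category.assoc, IsIso.hom_inv_id_assoc]

end SimpGrpLib
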